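import Cfsg.Agent.H978.Alm.Affine
import Cfsg.Agent.Blocks.UniqueBlock
import Cfsg.Agent.H617.Pb.Defs
import Cfsg.Agent.Characters.Core

/-!
# S4822/B6a: the affine case (helper219)

`affine_of` : the affine case of S4822 from the linear theorem of S4790 (`lin_main`), which is the hypothesis `hlin`
(exactly the hypothesis of `Cfsg.Agent.H978.Alm.affine`).
-/

set_option autoImplicit false

open Cfsg

namespace Cfsg.Agent.H219.Pb

open Cfsg.Agent.H697.Alm

universe u

/-- a single block: `B₀(G) = Irr(G)` -/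
theorem card_principalBlock {G : Type u} [Group G] [Finite G] {p : ℕ} {M : Ideal AlgInt} (hM : IsPModular p M)
    (N : Subgroup G) [N.Normal] (hNp : IsPGroup p N) (hcen : Subgroup.centralizer (N : Set G) ≤ N) :
    Nat.card (principalBlock M G) = Nat.card (ConjClasses G) := by
  rw [← Cfsg.Agent.Characters.Core.card_irr]
  have h : principalBlock M G = Set.univ := by
    ext χ
    simp only [Set.mem_univ, iff_true]
    exact Cfsg.Agent.Blocks.UniqueBlock.sameBlock_of_centralizer_le hM N hNp hcen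
      (⟨_, Cfsg.Agent.Characters.Core.isIrr_one⟩ : IrrCharacter G) χ
  rw [h]
  exact Nat.card_congr (Equiv.Set.univ _)

/-- the number of classes of elements of order not divisible by `p²` is at most the number of classes -/
theorem kap_le (p : ℕ) (G : Type u) [Group G] [Finite G] : kap p G ≤ Nat.card (ConjClasses G) := by
  have : Finite (ConjClasses G) := Finite.of_surjective _ ConjClasses.mk_surjective
  exact Finite.card_subtype_le _

/-- **the affine case**, in terms of the cardinality of the principal block -/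
theorem affine_of {p : ℕ} [Fact p.Prime] (h5 : 5 ≤ p)
    (hlin : ∀ (D E : Type u) [Group D] [Finite D] [AddCommGroup E] [Finite E] [Nontrivial E] [DistribMulAction D E]
      [FaithfulSMul D E], (∀ e : E, p • e = 0) → ¬ p ∣ Nat.card D → IrrAct D E → Nat.card E ≠ p →
      4 * (p - 1) < (Nat.card (ConjClasses D) + orb D E) ^ 2)
    {G : Type u} [Group G] [Finite G] {M : Ideal AlgInt}
    (hM : IsPModular p M) (N : Subgroup G) [N.Normal] (hmin : ∀ K : Subgroup G, K.Normal → K ≤ N → K = ⊥ ∨ K = N)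
    (hN1 : N ≠ ⊥) (hab : ∀ x ∈ N, ∀ y ∈ N, x * y = y * x) (hNp : IsPGroup p ↥N)
    (hcen : Subgroup.centralizer (N : Set G) = N) (hp : ¬ p ∣ N.index) :
    4 * (p - 1) ≤ Nat.card (principalBlock M G) ^ 2 := by
  have h1 := (Cfsg.Agent.H978.Alm.affine h5 hlin N hNp hab hmin hN1 hp hcen).1
  rw [card_principalBlock hM N hNp hcen.le]
  exact h1.trans (Nat.pow_le_pow_left (kap_le p G) 2)

/-- **the affine case**, in the form of task B6a -/
theorem affine_of' {p : ℕ} [Fact p.Prime] (h5 : 5 ≤ p)
    (hlin : ∀ (D E : Type u) [Group D] [Finite D] [AddCommGroup E] [Finite E] [Nontrivial E] [DistribMulAction D E]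
      [FaithfulSMul D E], (∀ e : E, p • e = 0) → ¬ p ∣ Nat.card D → IrrAct D E → Nat.card E ≠ p →
      4 * (p - 1) < (Nat.card (ConjClasses D) + orb D E) ^ 2)
    {G : Type u} [Group G] [Finite G] {M : Ideal AlgInt}
    (hM : IsPModular p M) (N : Subgroup G) [N.Normal] (hmin : ∀ K : Subgroup G, K.Normal → K ≤ N → K = ⊥ ∨ K = N)
    (hN1 : N ≠ ⊥) (hab : ∀ x ∈ N, ∀ y ∈ N, x * y = y * x) (hNp : IsPGroup p ↥N)
    (hcen : Subgroup.centralizer (N : Set G) = N) (hp : ¬ p ∣ N.index) :
    4 * (p - 1) ≤ Cfsg.Agent.H617.Pb.k0 M G ^ 2 :=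
  affine_of h5 hlin hM N hmin hN1 hab hNp hcen hp

end Cfsg.Agent.H219.Pb
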